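import Groth.Agent.CSA.EtaleSub
import Mathlib.RingTheory.Etale.Field

/-!
# The separable closure of a field in a connected algebra with a finite point
-/

set_option autoImplicit false
set_option linter.style.haveILetI false

universe u

namespace Groth.Agent.Fibres16.CompScheme

variable {k : Type u} [Field k] {R : Type u} [CommRing R] [Algebra k R]

/-- The subalgebra generated by the separable elements. -/
noncomputable abbrev sepSub (k : Type u) [Field k] (R : Type u) [CommRing R] [Algebra k R] : Subalgebra k R :=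
  Algebra.adjoin k {a : R | IsSeparable k a}

theorem isSeparable_mem_sepSub {a : R} (h : IsSeparable k a) : a ∈ sepSub k R := Algebra.subset_adjoin h

/-- Every element of the separable subalgebra lies in a finite unramified subalgebra. -/
theorem exists_finite_sub {x : R} (hx : x ∈ sepSub k R) :
    ∃ D : Subalgebra k R, x ∈ D ∧ D ≤ sepSub k R ∧ FiniteDimensional k D ∧ Algebra.FormallyUnramified k D := by
  classical
  obtain ⟨s, hs, hxs⟩ : ∃ s : Finset R, ↑s ⊆ {a : R | IsSeparable k a} ∧ x ∈ Algebra.adjoin k (s : Set R) := by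
    induction hx using Algebra.adjoin_induction with
    | mem y hy => exact ⟨{y}, by simpa using hy, Algebra.subset_adjoin (by simp)⟩
    | algebraMap r => exact ⟨∅, by simp, Subalgebra.algebraMap_mem _ r⟩
    | add a b _ _ ha hb =>
      obtain ⟨s, hs, ha⟩ := ha
      obtain ⟨t, ht, hb⟩ := hb
      exact ⟨s ∪ t, by simpa using Set.union_subset hs ht,
        add_mem (Algebra.adjoin_mono (by simp) ha) (Algebra.adjoin_mono (by simp) hb)⟩
    | mul a b _ _ ha hb =>
      obtain ⟨s, hs, ha⟩ := ha
      obtain ⟨t, ht, hb⟩ := hb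
      exact ⟨s ∪ t, by simpa using Set.union_subset hs ht,
        mul_mem (Algebra.adjoin_mono (by simp) ha) (Algebra.adjoin_mono (by simp) hb)⟩
  let D := Algebra.adjoin k (s : Set R)
  haveI : Module.Finite k D := Module.Finite.iff_fg.mpr
    (fg_adjoin_of_finite s.finite_toSet fun a ha => (hs ha).isIntegral)
  exact ⟨D, hxs, Algebra.adjoin_mono hs, inferInstance,
    CSA.EtaleSub.unramified_of_adjoin k D (Subtype.val ⁻¹' (s : Set R)) Algebra.adjoin_adjoin_coe_preimage
      fun y hy => (CSA.EtaleSub.isSeparable_coe_iff y).1 (hs hy)⟩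

variable (hidem : ∀ e : R, IsIdempotentElem e → e = 0 ∨ e = 1) {K : Type u} [Field K] [Algebra k K]
  [FiniteDimensional k K] (φ : R →ₐ[k] K)

include hidem φ in
/-- The separable subalgebra of a connected algebra with a finite point is a finite separable field
extension. -/
theorem sepSub_properties : IsField (sepSub k R) ∧ FiniteDimensional k (sepSub k R) ∧
    Algebra.IsSeparable k (sepSub k R) := by
  have hunit : ∀ x ∈ sepSub k R, x ≠ 0 → ∃ y ∈ sepSub k R, x * y = 1 := by
    intro x hx hx0
    obtain ⟨D, hxD, hD, _, _⟩ := exists_finite_sub hx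
    haveI : IsReduced D := Algebra.FormallyUnramified.isReduced_of_field k D
    haveI : IsArtinianRing D := IsArtinianRing.of_finite k D
    haveI : IsSemisimpleRing D := IsArtinianRing.isSemisimpleRing_of_isReduced D
    obtain ⟨a, ha⟩ := CSA.EtaleSub.exists_mul_mul_eq (⟨x, hxD⟩ : D)
    have hxa : x * (a : R) * x = x := congrArg Subtype.val ha
    have he : IsIdempotentElem (x * (a : R)) := by
      unfold IsIdempotentElem
      rw [← mul_assoc, hxa]
    rcases hidem _ he with h | h
    · rw [h, zero_mul] at hxa
      exact absurd hxa.symm hx0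
    · exact ⟨a, hD a.2, h⟩
  let ψ := φ.comp (sepSub k R).val
  haveI : Nontrivial R := φ.toRingHom.domain_nontrivial
  have hinj : Function.Injective ψ := by
    refine (injective_iff_map_eq_zero ψ).2 fun x hx => ?_
    by_contra hx0
    obtain ⟨y, hy, hxy⟩ := hunit x x.2 fun h => hx0 (Subtype.ext h)
    have h1 := congrArg φ hxy
    rw [map_mul, map_one, show φ (x : R) = 0 from hx, zero_mul] at h1
    exact zero_ne_one h1
  refine ⟨⟨⟨0, 1, fun h => zero_ne_one (congrArg Subtype.val h)⟩, mul_comm, fun {x} hx => ?_⟩,
    FiniteDimensional.of_injective ψ.toLinearMap hinj, ⟨fun x => ?_⟩⟩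
  · obtain ⟨y, hy, hxy⟩ := hunit x x.2 fun h => hx (Subtype.ext h)
    exact ⟨⟨y, hy⟩, Subtype.ext hxy⟩
  · obtain ⟨D, hxD, hD, _, _⟩ := exists_finite_sub x.2
    haveI := CSA.EtaleSub.isSeparable_of_unramified k D
    have h : IsSeparable k (x : R) :=
      (CSA.EtaleSub.isSeparable_coe_iff (⟨x, hxD⟩ : D)).2 (Algebra.IsSeparable.isSeparable k _)
    exact (CSA.EtaleSub.isSeparable_coe_iff x).1 h

/-- Separable field extensions map into the separable subalgebra. -/
theorem map_mem_sepSub {F : Type u} [CommRing F] [Algebra k F] [Algebra.IsSeparable k F] (h : F →ₐ[k] R) (a : F) :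
    h a ∈ sepSub k R :=
  isSeparable_mem_sepSub ((Algebra.IsSeparable.isSeparable k a).of_dvd
    (minpoly.dvd k _ (by rw [Polynomial.aeval_algHom_apply, minpoly.aeval, map_zero])))

end Groth.Agent.Fibres16.CompScheme
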