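import Groth.Agent.Fibres16.CompScheme.Alg
import Groth.Agent.S2277
import Groth.Agent.UnramFib.Field
import Mathlib.AlgebraicGeometry.Morphisms.Etale
import Mathlib.AlgebraicGeometry.Morphisms.Flat
import Mathlib.AlgebraicGeometry.Morphisms.QuasiFinite
import Mathlib.AlgebraicGeometry.Artinian

/-!
# The scheme of connected components of a scheme locally of finite type over a field
-/

set_option autoImplicit false
set_option linter.style.haveILetI false

universe u

open CategoryTheory Limits AlgebraicGeometry TopologicalSpace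

namespace Groth.Agent.Fibres16.CompScheme

/-- A morphism to an affine spectrum through the global sections. -/
theorem eq_toSpecΓ_comp {C : Scheme.{u}} {A : CommRingCat.{u}} (g : C ⟶ Spec A) :
    g = C.toSpecΓ ≫ Spec.map ((Scheme.ΓSpecIso A).inv ≫ g.appTop) := by
  refine ext_of_isAffine ?_
  rw [Scheme.Hom.comp_appTop, Scheme.toSpecΓ_appTop, Scheme.ΓSpecIso_naturality]
  simp

/-- The ring of global sections of a preconnected scheme has no nontrivial idempotents. -/
theorem idempotent_eq {C : Scheme.{u}} [PreconnectedSpace C] (e : Γ(C, ⊤)) (he : IsIdempotentElem e) :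
    e = 0 ∨ e = 1 := by
  have hz : ∀ a : Γ(C, ⊤), IsIdempotentElem a → C.basicOpen a = ⊥ → a = 0 := fun a ha hb => by
    refine C.sheaf.eq_of_locally_eq' (fun x : C => (⊤ : C.Opens)) ⊤ (fun _ => 𝟙 _)
      (fun x _ => Opens.mem_iSup.mpr ⟨x, trivial⟩) a 0 fun x => ?_
    refine TopCat.Presheaf.section_ext C.sheaf ⊤ _ _ fun y hy => ?_
    show C.presheaf.germ ⊤ y hy (C.presheaf.map (𝟙 _).op a) = C.presheaf.germ ⊤ y hy (C.presheaf.map (𝟙 _).op 0)
    rw [op_id, C.presheaf.map_id]
    show C.presheaf.germ ⊤ y hy a = C.presheaf.germ ⊤ y hy 0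
    rw [map_zero]
    have hu : ¬ IsUnit (C.presheaf.germ ⊤ y hy a) := fun hu => by
      have : y ∈ C.basicOpen a := (C.mem_basicOpen a y hy).2 hu
      rw [hb] at this
      exact this
    have h2 := ha.map (C.presheaf.germ ⊤ y hy).hom
    rcases IsLocalRing.isUnit_or_isUnit_one_sub_self (C.presheaf.germ ⊤ y hy a) with h | h
    · exact absurd h hu
    · refine h.mul_left_eq_zero.1 ?_
      rw [mul_sub, mul_one]
      exact sub_eq_zero.2 h2.eq.symm
  have hdisj : Disjoint (C.basicOpen e) (C.basicOpen (1 - e)) := by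
    rw [disjoint_iff, ← Scheme.basicOpen_mul, mul_sub, mul_one, he.eq, sub_self, Scheme.basicOpen_zero]
  have hcl : IsClopen (C.basicOpen e : Set C) := by
    refine ⟨?_, (C.basicOpen e).2⟩
    have : (C.basicOpen e : Set C) = (C.basicOpen (1 - e) : Set C)ᶜ := by
      refine Set.ext fun y => ⟨fun h h' => (hdisj.le_bot ⟨h, h'⟩).elim, fun h => ?_⟩
      rcases IsLocalRing.isUnit_or_isUnit_one_sub_self (C.presheaf.germ ⊤ y trivial e) with hu | hu
      · exact (C.mem_basicOpen e y trivial).2 hu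
      · exact absurd ((C.mem_basicOpen (1 - e) y (show y ∈ (⊤ : C.Opens) from trivial)).2 (by rw [map_sub, map_one]; exact hu)) h
    rw [this]
    exact (C.basicOpen (1 - e)).2.isClosed_compl
  rcases isClopen_iff.mp hcl with h | h
  · exact Or.inl (hz e he (Opens.ext h))
  · refine Or.inr (sub_eq_zero.1 (hz (1 - e) he.one_sub (Opens.ext (Set.eq_empty_of_forall_notMem fun y hy => ?_)))).symm
    exact (hdisj.le_bot ⟨h.ge (Set.mem_univ y), hy⟩).elim

variable {k : Type u} [Field k]

/-- Schemes étale over a field are discrete. -/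
theorem discreteTopology_of_etale {Y : Scheme.{u}} (g : Y ⟶ Spec (CommRingCat.of k)) [Etale g] :
    DiscreteTopology Y :=
  UnramFib.discreteTopology_of_unramified g

theorem flat_spec_of_field {R S : CommRingCat.{u}} (hR : IsField R) (φ : R ⟶ S) : Flat (Spec.map φ) := by
  rw [HasRingHomProperty.Spec_iff (P := @Flat)]
  algebraize [φ.hom]
  let : Field R := hR.toField
  exact (inferInstance : Module.Flat R S)

/-- Every morphism to the spectrum of a field is flat. -/
theorem flat_to_field (R : CommRingCat.{u}) (hR : IsField R) {C : Scheme.{u}} (f : C ⟶ Spec R) : Flat f := by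
  rw [IsZariskiLocalAtSource.iff_of_openCover (P := @Flat) C.affineCover]
  intro i
  obtain ⟨φ, hφ⟩ := Spec.map_surjective (C.affineCover.f i ≫ f)
  exact hφ ▸ flat_spec_of_field hR φ

variable {C : Scheme.{u}} (g : C ⟶ Spec (CommRingCat.of k))

/-- The algebra of global sections. -/
@[implicit_reducible]
noncomputable def algTop : Algebra k Γ(C, ⊤) :=
  ((Scheme.ΓSpecIso (CommRingCat.of k)).inv ≫ g.appTop).hom.toAlgebra

/-- The separable closure of `k` in the global sections. -/
noncomputable def cst : CommRingCat.{u} :=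
  letI := algTop g
  CommRingCat.of (sepSub k Γ(C, ⊤))

/-- The structure morphism of the component point. -/
noncomputable def cstStr : Spec (cst g) ⟶ Spec (CommRingCat.of k) :=
  letI := algTop g
  Spec.map (CommRingCat.ofHom (algebraMap k (sepSub k Γ(C, ⊤))))

/-- The projection to the component point. -/
noncomputable def cstπ : C ⟶ Spec (cst g) :=
  letI := algTop g
  C.toSpecΓ ≫ Spec.map (CommRingCat.ofHom (sepSub k Γ(C, ⊤)).val.toRingHom)

theorem cstπ_str : cstπ g ≫ cstStr g = g := by
  letI := algTop g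
  conv_rhs => rw [eq_toSpecΓ_comp g]
  unfold cstπ cstStr
  rw [Category.assoc, ← Spec.map_comp]
  rfl

variable [PreconnectedSpace C] [Nonempty C] [LocallyOfFiniteType g]

theorem exists_point :
    letI := algTop g
    ∃ (K : Type u) (_ : Field K) (_ : Algebra k K) (_ : FiniteDimensional k K), Nonempty (Γ(C, ⊤) →ₐ[k] K) := by
  letI := algTop g
  obtain ⟨x⟩ := ‹Nonempty C›
  obtain ⟨_, ⟨U, hU, rfl⟩, hxU, -⟩ := C.isBasis_affineOpens.exists_subset_of_mem_open (Set.mem_univ x) isOpen_univ
  let φ : CommRingCat.of k ⟶ Γ(C, U) :=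
    (Scheme.ΓSpecIso (CommRingCat.of k)).inv ≫ g.appLE ⊤ U (le_top.trans_eq g.preimage_top.symm)
  have hft : φ.hom.FiniteType := by
    refine RingHom.FiniteType.comp (LocallyOfFiniteType.finiteType_appLE g (isAffineOpen_top _) hU _) ?_
    exact RingHom.FiniteType.of_surjective _ (ConcreteCategory.bijective_of_isIso (Scheme.ΓSpecIso (CommRingCat.of k)).inv).2
  letI := φ.hom.toAlgebra
  haveI : Algebra.FiniteType k Γ(C, U) := hft
  haveI : Nonempty (U : C.Opens) := ⟨⟨x, hxU⟩⟩
  haveI : Nontrivial Γ(C, U) := Scheme.component_nontrivial C U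
  obtain ⟨m, hm⟩ := Ideal.exists_maximal Γ(C, U)
  letI := Ideal.Quotient.field m
  haveI : Module.Finite k (Γ(C, U) ⧸ m) := finite_of_finite_type_of_isJacobsonRing k _
  refine ⟨Γ(C, U) ⧸ m, inferInstance, inferInstance, inferInstance, ⟨(Ideal.Quotient.mkₐ k m).comp
    { (C.presheaf.map (homOfLE (le_top : U ≤ ⊤)).op).hom with commutes' := fun r => ?_ }⟩⟩
  rfl

theorem cst_properties :
    letI := algTop g
    IsField (sepSub k Γ(C, ⊤)) ∧ FiniteDimensional k (sepSub k Γ(C, ⊤)) ∧ Algebra.IsSeparable k (sepSub k Γ(C, ⊤)) := by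
  letI := algTop g
  obtain ⟨K, _, _, _, ⟨φ⟩⟩ := exists_point g
  exact sepSub_properties idempotent_eq φ

theorem etale_cstStr : Etale (cstStr g) := by
  letI := algTop g
  obtain ⟨hf, hfd, hsep⟩ := cst_properties g
  let : Field (sepSub k Γ(C, ⊤)) := hf.toField
  haveI := hfd; haveI := hsep
  haveI : Algebra.FormallyEtale k (sepSub k Γ(C, ⊤)) := Algebra.FormallyEtale.of_isSeparable _ _
  haveI : Algebra.Etale k (sepSub k Γ(C, ⊤)) := ⟨inferInstance, Algebra.FinitePresentation.of_finiteType.1 inferInstance⟩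
  exact HasRingHomProperty.Spec_iff.2 (RingHom.etale_algebraMap.2 inferInstance)

theorem flat_cstπ : Flat (cstπ g) := by
  letI := algTop g
  let : Field (cst g) := (cst_properties g).1.toField
  exact flat_to_field (cst g) (Field.toIsField _) (cstπ g)

theorem subsingleton_cst : Subsingleton ↥(Spec (cst g)) := by
  letI := algTop g
  let : Field (cst g) := (cst_properties g).1.toField
  exact inferInstanceAs (Subsingleton (PrimeSpectrum (cst g)))

/-- The universal property for one component. -/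
theorem existsUnique_desc {Y : Scheme.{u}} (gY : Y ⟶ Spec (CommRingCat.of k)) [Etale gY] (h : C ⟶ Y)
    (hh : h ≫ gY = g) : ∃! t : Spec (cst g) ⟶ Y, t ≫ gY = cstStr g ∧ cstπ g ≫ t = h := by
  letI := algTop g
  haveI := discreteTopology_of_etale gY
  obtain ⟨z⟩ := ‹Nonempty C›
  let W : Y.Opens := ⟨{h z}, isOpen_discrete _⟩
  have hall : ∀ x, h x ∈ W := fun x => by
    have := (isPreconnected_range h.continuous).subsingleton ⟨x, rfl⟩ ⟨z, rfl⟩
    exact this
  haveI : Subsingleton W := ⟨fun a b => Subtype.ext (a.2.trans b.2.symm)⟩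
  haveI : Finite W.toScheme := Finite.of_subsingleton (α := W)
  haveI : DiscreteTopology W.toScheme := inferInstanceAs (DiscreteTopology W)
  haveI : IsAffine W.toScheme := inferInstance
  let hl : C ⟶ W.toScheme := IsOpenImmersion.lift W.ι h (by
    rw [Scheme.Opens.range_ι]; rintro _ ⟨x, rfl⟩; exact hall x)
  have hlf : hl ≫ W.ι = h := IsOpenImmersion.lift_fac ..
  -- the coordinate ring of `W`
  let sW : CommRingCat.of k ⟶ Γ(W.toScheme, ⊤) := (Scheme.ΓSpecIso (CommRingCat.of k)).inv ≫ (W.ι ≫ gY).appTop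
  letI := sW.hom.toAlgebra
  have hWg : W.ι ≫ gY = W.toScheme.toSpecΓ ≫ Spec.map sW := eq_toSpecΓ_comp _
  haveI : Algebra.Etale k Γ(W.toScheme, ⊤) := by
    have h1 : Etale (Spec.map sW) := by
      have : Spec.map sW = W.toScheme.isoSpec.inv ≫ W.ι ≫ gY := by
        rw [hWg, ← Scheme.isoSpec_hom, Iso.inv_hom_id_assoc]
      rw [this]; infer_instance
    exact (HasRingHomProperty.Spec_iff (P := @Etale)).1 h1
  haveI : Module.Finite k Γ(W.toScheme, ⊤) := Algebra.FormallyUnramified.finite_of_free k _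
  haveI := CSA.EtaleSub.isSeparable_of_unramified k Γ(W.toScheme, ⊤)
  have hsW : sW ≫ hl.appTop = CommRingCat.ofHom (algebraMap k Γ(C, ⊤)) := by
    show _ = (Scheme.ΓSpecIso (CommRingCat.of k)).inv ≫ g.appTop
    rw [← hh, ← hlf, Category.assoc]
    simp only [sW, Category.assoc, Scheme.Hom.comp_appTop]
  let ψ : Γ(W.toScheme, ⊤) →ₐ[k] Γ(C, ⊤) :=
    { hl.appTop.hom with commutes' := fun r => congrArg (fun φ => φ.hom r) hsW }
  let χ : Γ(W.toScheme, ⊤) →ₐ[k] sepSub k Γ(C, ⊤) := ψ.codRestrict _ (map_mem_sepSub ψ)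
  let t₀ : Spec (cst g) ⟶ W.toScheme := Spec.map (CommRingCat.ofHom χ.toRingHom) ≫ W.toScheme.isoSpec.inv
  have ht₀ : cstπ g ≫ t₀ = hl := by
    rw [← cancel_mono W.toScheme.isoSpec.hom]
    simp only [t₀, cstπ, Category.assoc, Iso.inv_hom_id, Category.comp_id]
    rw [Scheme.isoSpec_hom, Scheme.toSpecΓ_naturality, ← Spec.map_comp]
    rfl
  refine ⟨t₀ ≫ W.ι, ⟨?_, by rw [← Category.assoc, ht₀, hlf]⟩, ?_⟩
  · simp only [t₀, Category.assoc]
    rw [hWg, ← Scheme.isoSpec_hom, Iso.inv_hom_id_assoc, cstStr, ← Spec.map_comp]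
    congr 1
    exact CommRingCat.hom_ext (χ.comp_algebraMap)
  · rintro t ⟨-, ht⟩
    haveI := subsingleton_cst g
    have hr : Set.range t ⊆ Set.range W.ι := by
      rintro _ ⟨p, rfl⟩
      rw [Scheme.Opens.range_ι, Subsingleton.elim p (cstπ g z), ← Scheme.Hom.comp_apply, ht]
      exact hall z
    have ht' : IsOpenImmersion.lift W.ι t hr ≫ W.ι = t := IsOpenImmersion.lift_fac ..
    rw [← ht']
    congr 1
    refine ext_of_isAffine ?_
    have h2 : cstπ g ≫ IsOpenImmersion.lift W.ι t hr = hl := by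
      rw [← cancel_mono W.ι, Category.assoc, ht', ht, hlf]
    have h3 : Mono (cstπ g).appTop := by
      refine ConcreteCategory.mono_of_injective _ ?_
      unfold cstπ
      rw [Scheme.Hom.comp_appTop, Scheme.toSpecΓ_appTop, Scheme.ΓSpecIso_naturality]
      exact Subtype.val_injective.comp (ConcreteCategory.bijective_of_isIso (Scheme.ΓSpecIso (cst g)).hom).1
    rw [← cancel_mono (cstπ g).appTop, ← Scheme.Hom.comp_appTop, ← Scheme.Hom.comp_appTop, h2, ht₀]

end Groth.Agent.Fibres16.CompScheme
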